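import Mathlib

/-!
# Gluing algebras at finitely many maximal ideals
-/

set_option autoImplicit false
set_option linter.style.haveILetI false
universe u

open TensorProduct

namespace Groth.Agent.GlueMax28

variable (A : Type u) [CommRing A] {J : Type} [Fintype J] (f : J → A) {r : ℕ}
  (B : Fin r → Type u) [∀ i, CommRing (B i)] [∀ i, Algebra A (B i)]

/-- The ambient product. -/
abbrev Amb : Type u := (∀ i, B i) × (∀ j, Localization.Away (f j))

/-- Localisation of `B` at an element of `A`. -/
abbrev BLoc (i : Fin r) (j : J) : Type u := Localization.Away (algebraMap A (B i) (f j))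

theorem isUnit_away (i : Fin r) (j : J) : IsUnit (algebraMap A (BLoc A f B i j) (f j)) := by
  rw [IsScalarTower.algebraMap_apply A (B i) (BLoc A f B i j)]
  exact IsLocalization.Away.algebraMap_isUnit _

/-- The map from `A_f`. -/
noncomputable def fromA (i : Fin r) (j : J) : Localization.Away (f j) →ₐ[A] BLoc A f B i j :=
  { toRingHom := IsLocalization.Away.lift (f j) (isUnit_away A f B i j)
    commutes' := fun a => IsLocalization.Away.lift_eq (f j) (isUnit_away A f B i j) a }

theorem isUnit_pair (j k : J) :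
    IsUnit (algebraMap A (Localization.Away (f j * f k)) (f j)) ∧
      IsUnit (algebraMap A (Localization.Away (f j * f k)) (f k)) := by
  have h := IsLocalization.Away.algebraMap_isUnit (S := Localization.Away (f j * f k)) (f j * f k)
  rw [map_mul] at h
  exact ⟨isUnit_of_mul_isUnit_left h, isUnit_of_mul_isUnit_right h⟩

/-- `A_f → A_{fg}`. -/
noncomputable def toL (j k : J) : Localization.Away (f j) →ₐ[A] Localization.Away (f j * f k) :=
  { toRingHom := IsLocalization.Away.lift (f j) (isUnit_pair A f j k).1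
    commutes' := fun a => IsLocalization.Away.lift_eq (f j) (isUnit_pair A f j k).1 a }

/-- `A_g → A_{fg}`. -/
noncomputable def toR (j k : J) : Localization.Away (f k) →ₐ[A] Localization.Away (f j * f k) :=
  { toRingHom := IsLocalization.Away.lift (f k) (isUnit_pair A f j k).2
    commutes' := fun a => IsLocalization.Away.lift_eq (f k) (isUnit_pair A f j k).2 a }

/-- Compatible families. -/
noncomputable def glued : Subalgebra A (Amb A f B) :=
  (⨅ (i : Fin r) (j : J), AlgHom.equalizer
      (((IsScalarTower.toAlgHom A (B i) (BLoc A f B i j)).comp (Pi.evalAlgHom A B i)).comp (AlgHom.fst A _ _))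
      (((fromA A f B i j).comp (Pi.evalAlgHom A (fun j => Localization.Away (f j)) j)).comp (AlgHom.snd A _ _))) ⊓
    ⨅ (j : J) (k : J), AlgHom.equalizer
      (((toL A f j k).comp (Pi.evalAlgHom A (fun j => Localization.Away (f j)) j)).comp (AlgHom.snd A _ _))
      (((toR A f j k).comp (Pi.evalAlgHom A (fun j => Localization.Away (f j)) k)).comp (AlgHom.snd A _ _))

variable {A f B}

theorem mem_glued {x : Amb A f B} :
    x ∈ glued A f B ↔ (∀ i j, algebraMap (B i) (BLoc A f B i j) (x.1 i) = fromA A f B i j (x.2 j)) ∧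
      ∀ j k, toL A f j k (x.2 j) = toR A f j k (x.2 k) := by
  simp [glued, AlgHom.mem_equalizer, Algebra.mem_iInf, Algebra.mem_inf]

theorem eq_zero_loc {S : Type u} [CommRing S] (g : A) [Algebra A S] [IsLocalization.Away g S] {a : A}
    (h : algebraMap A S a = 0) : ∃ e : ℕ, g ^ e * a = 0 := by
  obtain ⟨⟨_, e, rfl⟩, he⟩ := (IsLocalization.map_eq_zero_iff (Submonoid.powers g) S a).1 h
  exact ⟨e, he⟩

theorem smul_pow_eq_zero {i : Fin r} {j : J} {b : B i} (h : algebraMap (B i) (BLoc A f B i j) b = 0) :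
    ∃ e : ℕ, f j ^ e • b = 0 := by
  obtain ⟨e, he⟩ := eq_zero_loc (A := B i) (algebraMap A (B i) (f j)) h
  exact ⟨e, by rw [Algebra.smul_def, map_pow]; exact he⟩

/-- A compatible family on the open part is, up to powers of the ideal, a global element. -/
theorem exists_pow (c : ∀ j, Localization.Away (f j)) (hc : ∀ j k, toL A f j k (c j) = toR A f j k (c k)) :
    ∃ N : ℕ, ∀ k, ∃ a : A, ∀ j, f k ^ N • c j = algebraMap A _ a := by
  classical
  have h : ∀ k, ∃ (N : ℕ) (a : A), ∀ j, f k ^ N • c j = algebraMap A _ a := fun k => by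
    obtain ⟨e, a, ha⟩ := IsLocalization.Away.surj (f k) (c k)
    have hj : ∀ j, ∃ M, f k ^ M • (f k ^ e • c j - algebraMap A (Localization.Away (f j)) a) = 0 := fun j => by
      let δ := f k ^ e • c j - algebraMap A (Localization.Away (f j)) a
      have hδ : toL A f j k δ = 0 := by
        have h1 : f k ^ e • c k = algebraMap A (Localization.Away (f k)) a := by
          rw [Algebra.smul_def, map_pow, mul_comm]; exact ha
        simp only [δ, map_sub, map_smul, hc j k, AlgHom.commutes]
        rw [← map_smul, h1, AlgHom.commutes, sub_self]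
      obtain ⟨e', a', ha'⟩ := IsLocalization.Away.surj (f j) δ
      have h0 : algebraMap A (Localization.Away (f j * f k)) a' = 0 := by
        rw [← (toL A f j k).commutes, ← ha', map_mul, hδ, zero_mul]
      obtain ⟨M, hM⟩ := eq_zero_loc (f j * f k) h0
      refine ⟨M, ?_⟩
      have hu : IsUnit (algebraMap A (Localization.Away (f j)) (f j)) := IsLocalization.Away.algebraMap_isUnit _
      refine ((hu.pow M).mul (hu.pow e')).mul_left_eq_zero.1 ?_
      rw [Algebra.smul_def, map_pow]
      have := congrArg (algebraMap A (Localization.Away (f j))) hM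
      rw [map_mul, map_pow, map_mul, map_zero, mul_pow, ← ha'] at this
      linear_combination this
    choose M hM using hj
    refine ⟨Finset.univ.sup M + e, f k ^ Finset.univ.sup M * a, fun j => ?_⟩
    have hle : M j ≤ Finset.univ.sup M := Finset.le_sup (Finset.mem_univ j)
    obtain ⟨d, hd⟩ := Nat.exists_eq_add_of_le hle
    have h0 : f k ^ Finset.univ.sup M • (f k ^ e • c j - algebraMap A (Localization.Away (f j)) a) = 0 := by
      rw [hd, pow_add, mul_comm, mul_smul, hM, smul_zero]
    rw [smul_sub, sub_eq_zero, smul_smul, ← pow_add, Algebra.smul_def _ (algebraMap A _ a), ← map_mul] at h0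
    exact h0
  choose N a ha using h
  refine ⟨Finset.univ.sup N, fun k => ⟨f k ^ (Finset.univ.sup N - N k) * a k, fun j => ?_⟩⟩
  rw [map_mul, ← ha k j, ← Algebra.smul_def, smul_smul, ← pow_add, Nat.sub_add_cancel (Finset.le_sup (Finset.mem_univ k))]

theorem exists_pow_ideal (c : ∀ j, Localization.Away (f j)) (hc : ∀ j k, toL A f j k (c j) = toR A f j k (c k)) :
    ∃ N : ℕ, ∀ y ∈ Ideal.span (Set.range f) ^ N, ∃ a : A, ∀ j, y • c j = algebraMap A _ a := by
  obtain ⟨N₀, h⟩ := exists_pow c hc
  let T : Ideal A :=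
    { carrier := {y | ∃ a : A, ∀ j, y • c j = algebraMap A _ a}
      add_mem' := fun ⟨a, ha⟩ ⟨a', ha'⟩ => ⟨a + a', fun j => by rw [add_smul, ha, ha', map_add]⟩
      zero_mem' := ⟨0, fun j => by rw [zero_smul, map_zero]⟩
      smul_mem' := fun x y ⟨a, ha⟩ => ⟨x * a, fun j => by
        rw [smul_eq_mul, mul_smul, ha, Algebra.smul_def, map_mul]⟩ }
  have hfg : (Ideal.span (Set.range f)).FG := Submodule.fg_span (Set.finite_range f)
  obtain ⟨N, hN⟩ := Ideal.exists_pow_le_of_le_radical_of_fg
    (show Ideal.span (Set.range f) ≤ T.radical from Ideal.span_le.2 (by rintro _ ⟨k, rfl⟩; exact ⟨N₀, h k⟩)) hfg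
  exact ⟨N, fun y hy => hN hy⟩

section Max

variable (m : Fin r → Ideal A) [∀ i, (m i).IsMaximal] (hinj : Function.Injective m)
  (hI : Ideal.span (Set.range f) = ⨅ i, m i)

theorem exists_notMem_of_ne (i : Fin r) (hinj : Function.Injective m) :
    ∃ u : A, u ∉ m i ∧ ∀ l, l ≠ i → u ∈ m l := by
  classical
  have h : ∀ l, l ≠ i → ∃ u, u ∈ m l ∧ u ∉ m i := fun l hl => SetLike.not_le_iff_exists.1 fun hle =>
    hl (hinj ((‹∀ i, (m i).IsMaximal› l).eq_of_le (‹∀ i, (m i).IsMaximal› i).ne_top hle))
  let u : Fin r → A := fun l => if hl : l = i then 1 else (h l hl).choose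
  refine ⟨∏ l, u l, fun hmem => ?_, fun l hl => ?_⟩
  · obtain ⟨l, -, hl⟩ := (Ideal.IsPrime.prod_mem_iff (hp := (‹∀ i, (m i).IsMaximal› i).isPrime)).1 hmem
    by_cases he : l = i
    · simp only [u, he, dif_pos] at hl
      exact (Ideal.ne_top_iff_one _).1 (‹∀ i, (m i).IsMaximal› i).ne_top hl
    · simp only [u, dif_neg he] at hl
      exact (h l he).choose_spec.2 hl
  · exact Ideal.mem_of_dvd _ (Finset.dvd_prod_of_mem u (Finset.mem_univ l)) (by simpa [u, dif_neg hl] using (h l hl).choose_spec.1)

include hI in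
theorem exists_notMem_of_notMax {M : Ideal A} (hM : M.IsMaximal) (h : ∀ i, m i ≠ M) : ∃ j, f j ∉ M := by
  by_contra hc
  push Not at hc
  have hle : (⨅ i, m i) ≤ M := hI ▸ Ideal.span_le.2 (by rintro _ ⟨j, rfl⟩; exact hc j)
  rw [← Finset.inf_univ_eq_iInf] at hle
  obtain ⟨i, -, hi⟩ := (Ideal.IsPrime.inf_le' hM.isPrime).1 hle
  exact h i ((‹∀ i, (m i).IsMaximal› i).eq_of_le hM.ne_top hi)

include hinj in
theorem exists_kill (i : Fin r) : ∃ u : A, u ∉ m i ∧ ∀ l, l ≠ i → ∀ v : A, v ∈ m l →
    u * v ∈ m l ∧ u ∈ m l := by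
  obtain ⟨u, hu, hu'⟩ := exists_notMem_of_ne m i hinj
  exact ⟨u, hu, fun l hl v hv => ⟨Ideal.mul_mem_left _ _ hv, hu' l hl⟩⟩

include hI in
theorem mul_pow_mem {i l : Fin r} {u v : A} (hu : ∀ t, t ≠ i → u ∈ m t) (hv : ∀ t, t ≠ l → v ∈ m t)
    (hne : l ≠ i) (N : ℕ) : v ^ N * u ^ N ∈ Ideal.span (Set.range f) ^ N := by
  rw [← mul_pow, hI]
  refine Ideal.pow_mem_pow ((Submodule.mem_iInf _).2 fun t => ?_) N
  rcases eq_or_ne t i with rfl | ht
  · exact Ideal.mul_mem_right _ _ (hv t hne.symm)
  · exact Ideal.mul_mem_left _ _ (hu t ht)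

include hinj hI in
/-- Elements killed near the closed points and on the open part vanish. -/
theorem eq_zero_of_local {a : A} (hm : ∀ i, algebraMap A (Localization.AtPrime (m i)) a = 0)
    (hf : ∀ j, algebraMap A (Localization.Away (f j)) a = 0) : a = 0 := by
  have h : Ideal.torsionOf A A a = ⊤ := by
    by_contra hne
    obtain ⟨M, hM, hle⟩ := Ideal.exists_le_maximal _ hne
    by_cases h : ∃ i, m i = M
    · obtain ⟨i, rfl⟩ := h
      obtain ⟨⟨s, hs⟩, he⟩ := (IsLocalization.map_eq_zero_iff (m i).primeCompl _ a).1 (hm i)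
      exact hs (hle ((Ideal.mem_torsionOf_iff _ _).2 he))
    · push Not at h
      obtain ⟨j, hj⟩ := exists_notMem_of_notMax m hI hM h
      obtain ⟨e, he⟩ := eq_zero_loc (f j) (hf j)
      exact hj (hM.isPrime.mem_of_pow_mem e (hle ((Ideal.mem_torsionOf_iff _ _).2 he)))
  have h1 := (Ideal.mem_torsionOf_iff _ _).1 (h.ge (Submodule.mem_top : (1 : A) ∈ ⊤))
  simpa using h1

include hinj hI in
/-- Gluing elements. -/
theorem exists_global (α : ∀ i, Localization.AtPrime (m i)) (c : ∀ j, Localization.Away (f j))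
    (hαc : ((α, c) : Amb A f fun i => Localization.AtPrime (m i)) ∈ glued A f fun i => Localization.AtPrime (m i)) :
    ∃ a : A, (∀ i, algebraMap A _ a = α i) ∧ ∀ j, algebraMap A _ a = c j := by
  classical
  obtain ⟨h1, h2⟩ := mem_glued.1 hαc
  obtain ⟨N, hN⟩ := exists_pow_ideal c h2
  let T : Ideal A :=
    { carrier := {y | ∃ a : A, (∀ i, y • α i = algebraMap A _ a) ∧ ∀ j, y • c j = algebraMap A _ a}
      add_mem' := fun ⟨a, ha, hb⟩ ⟨a', ha', hb'⟩ =>
        ⟨a + a', fun i => by rw [add_smul, ha, ha', map_add], fun j => by rw [add_smul, hb, hb', map_add]⟩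
      zero_mem' := ⟨0, fun i => by rw [zero_smul, map_zero], fun j => by rw [zero_smul, map_zero]⟩
      smul_mem' := fun x y ⟨a, ha, hb⟩ => ⟨x * a, fun i => by rw [smul_eq_mul, mul_smul, ha, Algebra.smul_def, map_mul],
        fun j => by rw [smul_eq_mul, mul_smul, hb, Algebra.smul_def, map_mul]⟩ }
  suffices hT : T = ⊤ by
    obtain ⟨a, ha, hb⟩ := hT.ge (Submodule.mem_top : (1 : A) ∈ ⊤)
    exact ⟨a, fun i => by rw [← ha, one_smul], fun j => by rw [← hb, one_smul]⟩
  by_contra hne
  obtain ⟨M, hM, hle⟩ := Ideal.exists_le_maximal T hne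
  have hkill : ∀ (l : Fin r) (j : J) (δ : Localization.AtPrime (m l)),
      algebraMap _ (BLoc A f (fun i => Localization.AtPrime (m i)) l j) δ = 0 → ∃ e, f j ^ e • δ = 0 :=
    fun l j δ h => smul_pow_eq_zero (B := fun i => Localization.AtPrime (m i)) h
  by_cases h : ∃ i, m i = M
  · obtain ⟨i, rfl⟩ := h
    obtain ⟨⟨a₀, ⟨s, hs⟩⟩, hsa⟩ := IsLocalization.surj (m i).primeCompl (α i)
    have hsa' : s • α i = algebraMap A _ a₀ := by rw [Algebra.smul_def, mul_comm]; exact hsa
    -- the open part
    have hj : ∀ j, ∃ t ∉ m i, t • (s • c j - algebraMap A _ a₀) = 0 := fun j => by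
      obtain ⟨e, d, hd⟩ := IsLocalization.Away.surj (f j) (s • c j - algebraMap A _ a₀)
      have h0 : fromA A f (fun i => Localization.AtPrime (m i)) i j (s • c j - algebraMap A _ a₀) = 0 := by
        rw [map_sub, map_smul, ← h1 i j, AlgHom.commutes]
        rw [IsScalarTower.algebraMap_apply A (Localization.AtPrime (m i)) (BLoc A f (fun i => Localization.AtPrime (m i)) i j),
          sub_eq_zero]
        exact (map_smul (IsScalarTower.toAlgHom A (Localization.AtPrime (m i))
          (BLoc A f (fun i => Localization.AtPrime (m i)) i j)) s (α i)).symm.trans (congrArg _ hsa')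
      have h3 : algebraMap (Localization.AtPrime (m i)) (BLoc A f (fun i => Localization.AtPrime (m i)) i j)
          (algebraMap A _ d) = 0 := by
        rw [← IsScalarTower.algebraMap_apply, ← (fromA A f (fun i => Localization.AtPrime (m i)) i j).commutes, ← hd,
          map_mul, h0, zero_mul]
      obtain ⟨e', he'⟩ := hkill i j _ h3
      rw [Algebra.smul_def, ← map_mul] at he'
      obtain ⟨⟨t, ht⟩, htd⟩ := (IsLocalization.map_eq_zero_iff (m i).primeCompl _ _).1 he'
      refine ⟨t, ht, ?_⟩
      have hu : IsUnit (algebraMap A (Localization.Away (f j)) (f j)) := IsLocalization.Away.algebraMap_isUnit _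
      refine ((hu.pow e').mul (hu.pow e)).mul_left_eq_zero.1 ?_
      rw [Algebra.smul_def]
      have h5 := congrArg (algebraMap A (Localization.Away (f j))) htd
      rw [map_mul, map_mul, map_pow, ← hd, map_zero] at h5
      linear_combination h5
    choose t ht htj using hj
    -- the other points
    obtain ⟨u, hu, hu'⟩ := exists_notMem_of_ne m i hinj
    have hl : ∀ l, l ≠ i → ∃ e, u ^ e • ((∏ j, t j) • (s • α l - algebraMap A _ a₀)) = 0 := fun l hl => by
      let δ := (∏ j, t j) • (s • α l - algebraMap A (Localization.AtPrime (m l)) a₀)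
      have hj' : ∀ j, ∃ e, f j ^ e • δ = 0 := fun j => hkill l j δ (by
        rw [← IsScalarTower.toAlgHom_apply A, map_smul, map_sub, map_smul, AlgHom.commutes,
          IsScalarTower.toAlgHom_apply, h1 l j, ← (fromA A f (fun i => Localization.AtPrime (m i)) l j).commutes,
          ← map_smul, ← map_sub, ← map_smul]
        obtain ⟨w, hw⟩ := Finset.dvd_prod_of_mem t (Finset.mem_univ j)
        rw [hw, mul_comm, mul_smul, htj, smul_zero, map_zero])
      have hrad : Ideal.span (Set.range f) ≤ (Ideal.torsionOf A (Localization.AtPrime (m l)) δ).radical := Ideal.span_le.2 (by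
        rintro _ ⟨j, rfl⟩
        obtain ⟨e, he⟩ := hj' j
        exact ⟨e, (Ideal.mem_torsionOf_iff _ _).2 he⟩)
      obtain ⟨e, he⟩ := Ideal.exists_pow_le_of_le_radical_of_fg hrad (Submodule.fg_span (Set.finite_range f))
      obtain ⟨v, hv, hv'⟩ := exists_notMem_of_ne m l hinj
      refine ⟨e, ?_⟩
      have h6 := (Ideal.mem_torsionOf_iff _ _).1 (he (mul_pow_mem m hI hu' hv' hl e))
      rw [mul_smul, Algebra.smul_def (v ^ e)] at h6
      exact (IsLocalization.map_units (Localization.AtPrime (m l))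
        (⟨v ^ e, fun h => hv ((‹∀ i, (m i).IsMaximal› l).isPrime.mem_of_pow_mem e h)⟩ : (m l).primeCompl)).mul_right_eq_zero.1 h6
    choose e he using hl
    let E : ℕ := Finset.univ.sup fun l => if hl : l = i then 0 else e l hl
    have hy : u ^ E * ((∏ j, t j) * s) ∈ T := by
      refine ⟨u ^ E * ((∏ j, t j) * a₀), fun l => ?_, fun j => ?_⟩
      · rw [map_mul, ← Algebra.smul_def, mul_smul, map_mul, ← Algebra.smul_def, mul_smul, ← sub_eq_zero, ← smul_sub,
          ← smul_sub]
        rcases eq_or_ne l i with rfl | hl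
        · rw [hsa', sub_self, smul_zero, smul_zero]
        · have hle : e l hl ≤ E := by
            refine le_trans ?_ (Finset.le_sup (Finset.mem_univ l))
            rw [dif_neg hl]
          obtain ⟨d, hd⟩ := Nat.exists_eq_add_of_le hle
          rw [hd, pow_add, mul_comm, mul_smul, he, smul_zero]
      · rw [map_mul, ← Algebra.smul_def, mul_smul, map_mul, ← Algebra.smul_def, mul_smul, ← sub_eq_zero, ← smul_sub,
          ← smul_sub]
        obtain ⟨w, hw⟩ := Finset.dvd_prod_of_mem t (Finset.mem_univ j)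
        rw [hw, mul_comm (t j), mul_smul, htj, smul_zero, smul_zero]
    have hp := (‹∀ i, (m i).IsMaximal› i).isPrime
    rcases hp.mem_or_mem (hle hy) with h | h
    · exact hu (hp.mem_of_pow_mem E h)
    · rcases hp.mem_or_mem h with h | h
      · obtain ⟨j, -, hj⟩ := hp.prod_mem_iff.1 h
        exact ht j hj
      · exact hs h
  · push Not at h
    obtain ⟨k, hk⟩ := exists_notMem_of_notMax m hI hM h
    obtain ⟨a, ha⟩ := hN (f k ^ N) (Ideal.pow_mem_pow (Ideal.subset_span (Set.mem_range_self k)) N)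
    have hl : ∀ l, ∃ e, f k ^ e • (f k ^ N • α l - algebraMap A _ a) = 0 := fun l => hkill l k _ (by
      rw [← IsScalarTower.toAlgHom_apply A, map_sub, map_smul, AlgHom.commutes, IsScalarTower.toAlgHom_apply,
        h1 l k, ← map_smul, ha, AlgHom.commutes, sub_self])
    choose e he using hl
    have hy : f k ^ (Finset.univ.sup e) * f k ^ N ∈ T := by
      refine ⟨f k ^ (Finset.univ.sup e) * a, fun l => ?_, fun j => ?_⟩
      · rw [map_mul, ← Algebra.smul_def, mul_smul, ← sub_eq_zero, ← smul_sub]
        obtain ⟨d, hd⟩ := Nat.exists_eq_add_of_le (Finset.le_sup (f := e) (Finset.mem_univ l))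
        rw [hd, pow_add, mul_comm, mul_smul, he, smul_zero]
      · rw [map_mul, ← Algebra.smul_def, mul_smul, ha]
    rcases hM.isPrime.mem_or_mem (hle hy) with h | h <;> exact hk (hM.isPrime.mem_of_pow_mem _ h)

end Max

end Groth.Agent.GlueMax28
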