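import Groth.Agent.GlueMax28.Basic

/-!
# Properties of the glued algebra
-/

set_option autoImplicit false
set_option linter.style.haveILetI false
universe u

open TensorProduct

namespace Groth.Agent.GlueMax28

variable (A : Type u) [CommRing A] {J : Type} [Fintype J] (f : J → A) {r : ℕ}
  (m : Fin r → Ideal A) [∀ i, (m i).IsMaximal]
  (B : Fin r → Type u) [∀ i, CommRing (B i)] [∀ i, Algebra A (B i)]
  [∀ i, Algebra (Localization.AtPrime (m i)) (B i)] [∀ i, IsScalarTower A (Localization.AtPrime (m i)) (B i)]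

/-- Local rings at the points, as a family. -/
abbrev Lfam : Fin r → Type u := fun i => Localization.AtPrime (m i)

theorem isUnit_map (i : Fin r) (j : J) :
    IsUnit ((((IsScalarTower.toAlgHom A (B i) (BLoc A f B i j)).comp
      (IsScalarTower.toAlgHom A (Localization.AtPrime (m i)) (B i))).toRingHom)
        (algebraMap A (Localization.AtPrime (m i)) (f j))) := by
  rw [AlgHom.toRingHom_eq_coe, RingHom.coe_coe, AlgHom.commutes]
  exact isUnit_away A f B i j

/-- The localised structure map. -/
noncomputable def gmap (i : Fin r) (j : J) : BLoc A f (Lfam A m) i j →ₐ[A] BLoc A f B i j :=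
  { toRingHom := IsLocalization.Away.lift (algebraMap A (Localization.AtPrime (m i)) (f j)) (isUnit_map A f m B i j)
    commutes' := fun a => by
      rw [IsScalarTower.algebraMap_apply A (Localization.AtPrime (m i)) (BLoc A f (Lfam A m) i j)]
      exact (IsLocalization.Away.lift_eq (algebraMap A (Localization.AtPrime (m i)) (f j)) (isUnit_map A f m B i j) _).trans
        (AlgHom.commutes _ a) }

variable {A f m B}

theorem gmap_algebraMap (i : Fin r) (j : J) (x : Localization.AtPrime (m i)) :
    gmap A f m B i j (algebraMap (Localization.AtPrime (m i)) (BLoc A f (Lfam A m) i j) x) =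
      algebraMap (B i) (BLoc A f B i j) (algebraMap (Localization.AtPrime (m i)) (B i) x) :=
  IsLocalization.Away.lift_eq (algebraMap A (Localization.AtPrime (m i)) (f j)) (isUnit_map A f m B i j) x

theorem gmap_fromA (i : Fin r) (j : J) (z : Localization.Away (f j)) :
    gmap A f m B i j (fromA A f (Lfam A m) i j z) = fromA A f B i j z :=
  DFunLike.congr_fun (IsLocalization.algHom_ext (Submonoid.powers (f j))
    (h := AlgHom.ext fun a => (AlgHom.commutes _ a).trans (AlgHom.commutes _ a).symm) :
      (gmap A f m B i j).comp (fromA A f (Lfam A m) i j) = fromA A f B i j) z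

section Hyp

variable (n : ℕ)
  (hker : ∀ i, ∀ y ∈ Ideal.span (Set.range f) ^ n, ∀ x : Localization.AtPrime (m i),
    algebraMap (Localization.AtPrime (m i)) (B i) x = 0 → y • x = 0)
  (hcoker : ∀ i, ∀ y ∈ Ideal.span (Set.range f) ^ n, ∀ b : B i,
    ∃ x : Localization.AtPrime (m i), algebraMap (Localization.AtPrime (m i)) (B i) x = y • b)

theorem pow_mem (j : J) : f j ^ n ∈ Ideal.span (Set.range f) ^ n :=
  Ideal.pow_mem_pow (Ideal.subset_span (Set.mem_range_self j)) n

include hker in
theorem gmap_injective (i : Fin r) (j : J) : Function.Injective (gmap A f m B i j) := by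
  refine (injective_iff_map_eq_zero _).2 fun z hz => ?_
  obtain ⟨e, x, hx⟩ := IsLocalization.Away.surj (algebraMap A (Localization.AtPrime (m i)) (f j)) z
  have h := congrArg (gmap A f m B i j) hx
  rw [map_mul, hz, zero_mul, gmap_algebraMap] at h
  obtain ⟨e', he'⟩ := smul_pow_eq_zero (B := B) h.symm
  have h2 : f j ^ n • (f j ^ e' • x) = 0 := hker i _ (pow_mem n j) _ (by
    rw [← IsScalarTower.toAlgHom_apply A, map_smul]; exact he')
  have h3 := congrArg (algebraMap (Localization.AtPrime (m i)) (BLoc A f (Lfam A m) i j)) h2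
  rw [Algebra.smul_def, Algebra.smul_def, map_mul, map_mul, map_zero, map_pow, map_pow, map_pow, map_pow, ← hx] at h3
  have hu : IsUnit (algebraMap (Localization.AtPrime (m i)) (BLoc A f (Lfam A m) i j)
      (algebraMap A (Localization.AtPrime (m i)) (f j))) := IsLocalization.Away.algebraMap_isUnit _
  refine (((hu.pow n).mul (hu.pow e')).mul (hu.pow e)).mul_left_eq_zero.1 ?_
  linear_combination h3

include hker in
theorem mem_glued_lift {b : ∀ i, B i} {c : ∀ j, Localization.Away (f j)} (h : ((b, c) : Amb A f B) ∈ glued A f B)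
    (α : ∀ i, Localization.AtPrime (m i)) (hα : ∀ i, algebraMap (Localization.AtPrime (m i)) (B i) (α i) = b i) :
    ((α, c) : Amb A f (Lfam A m)) ∈ glued A f (Lfam A m) := by
  obtain ⟨h1, h2⟩ := mem_glued.1 h
  refine mem_glued.2 ⟨fun i j => gmap_injective n hker i j ?_, h2⟩
  rw [gmap_algebraMap, gmap_fromA, hα]
  exact h1 i j

variable (hinj : Function.Injective m) (hI : Ideal.span (Set.range f) = ⨅ i, m i)

include hinj hI hker hcoker in
theorem smul_mem_range (x : glued A f B) {y : A} (hy : y ∈ Ideal.span (Set.range f) ^ n) :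
    y • x ∈ (algebraMap A (glued A f B)).range := by
  obtain ⟨⟨b, c⟩, hx⟩ := x
  choose α hα using fun i => hcoker i y hy (b i)
  obtain ⟨a, ha, ha'⟩ := exists_global m hinj hI α (y • c)
    (mem_glued_lift (b := y • b) n hker ((glued A f B).smul_mem hx y) α hα)
  refine ⟨a, Subtype.ext (Prod.ext (funext fun i => ?_) (funext fun j => ?_))⟩
  · change algebraMap A (B i) a = y • b i
    rw [← hα, ← ha, ← IsScalarTower.algebraMap_apply]
  · exact ha' j

include hinj hI hker in
theorem ker_killed {a : A} (ha : algebraMap A (glued A f B) a = 0) {y : A}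
    (hy : y ∈ Ideal.span (Set.range f) ^ n) : y * a = 0 := by
  have h := congrArg Subtype.val ha
  refine eq_zero_of_local m hinj hI (fun i => ?_) (fun j => ?_)
  · rw [map_mul, ← Algebra.smul_def]
    refine hker i y hy _ ?_
    rw [← IsScalarTower.algebraMap_apply]
    exact congrFun (congrArg Prod.fst h) i
  · rw [map_mul, show algebraMap A (Localization.Away (f j)) a = 0 from congrFun (congrArg Prod.snd h) j, mul_zero]

include hinj hI in
theorem injective_algebraMap (h : ∀ i, Function.Injective (algebraMap (Localization.AtPrime (m i)) (B i))) :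
    Function.Injective (algebraMap A (glued A f B)) := by
  refine (injective_iff_map_eq_zero _).2 fun a ha => ?_
  have h' := congrArg Subtype.val ha
  refine eq_zero_of_local m hinj hI (fun i => h i ?_) (fun j => congrFun (congrArg Prod.snd h') j)
  rw [map_zero, ← IsScalarTower.algebraMap_apply]
  exact congrFun (congrArg Prod.fst h') i

include hinj hI hker in
theorem exists_eq_algebraMap (x : glued A f B)
    (h : ∀ i, ∃ α : Localization.AtPrime (m i), algebraMap (Localization.AtPrime (m i)) (B i) α = x.1.1 i) :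
    ∃ a : A, algebraMap A (glued A f B) a = x := by
  choose α hα using h
  obtain ⟨⟨b, c⟩, hx⟩ := x
  obtain ⟨a, ha, ha'⟩ := exists_global m hinj hI α c (mem_glued_lift n hker hx α hα)
  refine ⟨a, Subtype.ext (Prod.ext (funext fun i => ?_) (funext fun j => ?_))⟩
  · change algebraMap A (B i) a = b i
    exact ((IsScalarTower.algebraMap_apply A (Localization.AtPrime (m i)) (B i) a).trans (congrArg _ (ha i))).trans (hα i)
  · exact ha' j

include hker hcoker in
theorem exists_family (i : Fin r) (b : B i) : ∃ s ∉ m i, ∃ c : ∀ j, Localization.Away (f j),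
    (∀ j k, toL A f j k (c j) = toR A f j k (c k)) ∧
    ∀ j, algebraMap (B i) (BLoc A f B i j) (s • b) = fromA A f B i j (c j) := by
  classical
  have h0 : ∀ j, ∃ s ∉ m i, ∃ a : A, algebraMap A (B i) a = s • (f j ^ n • b) := fun j => by
    obtain ⟨x, hx⟩ := hcoker i _ (pow_mem n j) b
    obtain ⟨⟨a, ⟨s, hs⟩⟩, hsa⟩ := IsLocalization.surj (m i).primeCompl x
    refine ⟨s, hs, a, ?_⟩
    rw [IsScalarTower.algebraMap_apply A (Localization.AtPrime (m i)) (B i), ← hsa, map_mul, hx,
      ← IsScalarTower.algebraMap_apply, mul_comm, ← Algebra.smul_def]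
  choose s hs a ha using h0
  have hp := (‹∀ i, (m i).IsMaximal› i).isPrime
  choose w hw using fun j => Finset.dvd_prod_of_mem s (Finset.mem_univ j)
  have ha' : ∀ j, algebraMap A (B i) (w j * a j) = (∏ j, s j) • (f j ^ n • b) := fun j => by
    rw [map_mul, ha, hw j, mul_comm (s j), mul_smul, Algebra.smul_def (w j)]
  have h1 : ∀ j k, ∃ t ∉ m i, t * (f j ^ n * (f k ^ n * (w j * a j) - f j ^ n * (w k * a k))) = 0 := fun j k => by
    have hz := hker i _ (pow_mem n j) (algebraMap A (Localization.AtPrime (m i))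
      (f k ^ n * (w j * a j) - f j ^ n * (w k * a k))) (by
        rw [← IsScalarTower.algebraMap_apply, map_sub, map_mul, map_mul (algebraMap A (B i)) (f j ^ n), ha', ha']
        simp only [Algebra.smul_def, map_pow]
        ring)
    rw [Algebra.smul_def, ← map_mul] at hz
    obtain ⟨⟨t, ht⟩, htz⟩ := (IsLocalization.map_eq_zero_iff (m i).primeCompl _ _).1 hz
    exact ⟨t, ht, htz⟩
  choose t ht htz using h1
  let T : A := ∏ p : J × J, t p.1 p.2
  refine ⟨T * ∏ j, s j, fun h => ?_,
    fun j => IsLocalization.mk' (Localization.Away (f j)) (T * (w j * a j))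
      (⟨f j ^ n, n, rfl⟩ : Submonoid.powers (f j)), fun j k => ?_, fun j => ?_⟩
  · rcases hp.mem_or_mem h with h | h
    · obtain ⟨p, -, hp'⟩ := hp.prod_mem_iff.1 h
      exact ht _ _ hp'
    · obtain ⟨j, -, hj⟩ := hp.prod_mem_iff.1 h
      exact hs _ hj
  · have hu := isUnit_pair A f j k
    have e1 := congrArg (toL A f j k) (IsLocalization.mk'_spec (Localization.Away (f j)) (T * (w j * a j))
      (⟨f j ^ n, n, rfl⟩ : Submonoid.powers (f j)))
    have e2 := congrArg (toR A f j k) (IsLocalization.mk'_spec (Localization.Away (f k)) (T * (w k * a k))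
      (⟨f k ^ n, n, rfl⟩ : Submonoid.powers (f k)))
    obtain ⟨v, hv⟩ := Finset.dvd_prod_of_mem (fun p : J × J => t p.1 p.2) (Finset.mem_univ (j, k))
    have e3 := congrArg (algebraMap A (Localization.Away (f j * f k)))
      (show (T * (f k ^ n * (w j * a j)) - T * (f j ^ n * (w k * a k))) * f j ^ n = 0 by
        rw [show T = t j k * v from hv]; linear_combination v * htz j k)
    rw [map_mul, map_zero, map_pow] at e3
    have e4 := (hu.1.pow n).mul_left_eq_zero.1 e3
    simp only [map_mul, map_sub, map_pow, AlgHom.commutes] at e1 e2 e4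
    refine ((hu.1.pow n).mul (hu.2.pow n)).mul_left_injective ?_
    linear_combination (algebraMap A (Localization.Away (f j * f k)) (f k)) ^ n * e1 -
      (algebraMap A (Localization.Away (f j * f k)) (f j)) ^ n * e2 + e4
  · have e1 := congrArg (fromA A f B i j) (IsLocalization.mk'_spec (Localization.Away (f j)) (T * (w j * a j))
      (⟨f j ^ n, n, rfl⟩ : Submonoid.powers (f j)))
    rw [map_mul, AlgHom.commutes, AlgHom.commutes] at e1
    refine ((isUnit_away A f B i j).pow n).mul_left_injective ?_
    change _ * _ = _ * _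
    rw [← map_pow, e1, IsScalarTower.algebraMap_apply A (B i) (BLoc A f B i j) (f j ^ n),
      IsScalarTower.algebraMap_apply A (B i) (BLoc A f B i j) (T * (w j * a j)), map_mul (algebraMap A (B i)) T, ha', ← map_mul]
    congr 1
    simp only [Algebra.smul_def, map_mul, map_prod]
    ring

include hker hcoker hinj hI in
theorem isLocalizedModule_proj (i : Fin r) :
    IsLocalizedModule (m i).primeCompl
      (((Pi.evalAlgHom A B i).comp ((AlgHom.fst A _ _).comp (glued A f B).val)).toLinearMap) := by
  classical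
  have hmax := ‹∀ i, (m i).IsMaximal›
  have hun : ∀ l, ∀ s : A, s ∉ m l → IsUnit (algebraMap A (Module.End A (B l)) s) := fun l s hs => by
    have h := (IsLocalization.map_units (Localization.AtPrime (m l)) (⟨s, hs⟩ : (m l).primeCompl)).map
      (Algebra.lsmul A A (B l) : Localization.AtPrime (m l) →ₐ[A] _)
    rwa [AlgHom.commutes] at h
  have hcancel : ∀ l, ∀ s : A, s ∉ m l → ∀ x : B l, s • x = 0 → x = 0 := fun l s hs x hx =>
    ((Module.End.isUnit_iff _).1 (hun l s hs)).1 (by simpa [Module.algebraMap_end_apply] using hx)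
  refine ⟨fun s => hun i s s.2, fun b => ?_, fun {x₁ x₂} hx => ?_⟩
  · obtain ⟨s, hs, c, hc, hcb⟩ := exists_family n hker hcoker i b
    obtain ⟨N, hN⟩ := exists_pow_ideal c hc
    obtain ⟨u, hu, hu'⟩ := exists_notMem_of_ne m i hinj
    have h1 : ∀ l, ∃ β : B l, (∀ j, algebraMap (B l) (BLoc A f B l j) β = fromA A f B l j (u ^ N • c j)) ∧
        True := fun l => by
      obtain ⟨v, hv, hv'⟩ := exists_notMem_of_ne m l hinj
      by_cases hl : l = i
      · subst hl
        exact ⟨u ^ N • (s • b), fun j => by
          rw [← IsScalarTower.toAlgHom_apply A, map_smul, IsScalarTower.toAlgHom_apply, hcb, map_smul],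
          trivial⟩
      · obtain ⟨a, ha⟩ := hN _ (mul_pow_mem m hI hu' hv' hl N)
        obtain ⟨β, hβ⟩ := ((Module.End.isUnit_iff _).1 (hun l (v ^ N) (fun h => hv ((hmax l).isPrime.mem_of_pow_mem N h)))).2
          (algebraMap A (B l) a)
        refine ⟨β, fun j => ?_, trivial⟩
        rw [Module.algebraMap_end_apply] at hβ
        have e1 := congrArg (IsScalarTower.toAlgHom A (B l) (BLoc A f B l j)) hβ
        rw [map_smul, AlgHom.commutes, IsScalarTower.toAlgHom_apply, ← (fromA A f B l j).commutes, ← ha j, mul_smul,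
          map_smul] at e1
        have hu : IsUnit (algebraMap A (BLoc A f B l j) (v ^ N)) := by
          have h := ((IsLocalization.map_units (Localization.AtPrime (m l)) (⟨v ^ N, fun h => hv
            ((hmax l).isPrime.mem_of_pow_mem N h)⟩ : (m l).primeCompl)).map
              (algebraMap (Localization.AtPrime (m l)) (B l))).map (algebraMap (B l) (BLoc A f B l j))
          rwa [← IsScalarTower.algebraMap_apply, ← IsScalarTower.algebraMap_apply] at h
        refine hu.mul_right_injective ?_
        simpa only [Algebra.smul_def] using e1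
    choose β hβ _h using h1
    let β' : ∀ l, B l := Function.update β i (u ^ N • (s • b))
    have hmem : ((β', fun j => u ^ N • c j) : Amb A f B) ∈ glued A f B := by
      refine mem_glued.2 ⟨fun l j => ?_, fun j k => by rw [map_smul, map_smul, hc]⟩
      rcases eq_or_ne l i with rfl | hl
      · simp only [β', Function.update_self]
        rw [← IsScalarTower.toAlgHom_apply A, map_smul, IsScalarTower.toAlgHom_apply, hcb, map_smul]
      · simp only [β', Function.update_of_ne hl]
        exact hβ l j
    refine ⟨⟨⟨_, hmem⟩, ⟨u ^ N * s, fun h => ((hmax i).isPrime.mem_or_mem h).elim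
      (fun h => hu ((hmax i).isPrime.mem_of_pow_mem N h)) hs⟩⟩, ?_⟩
    change (u ^ N * s) • b = β' i
    simp only [β', Function.update_self, mul_smul]
  · have hd : ∀ j, ∃ t ∉ m i, t • (x₁ - x₂).1.2 j = 0 := fun j => by
      obtain ⟨e, a, ha⟩ := IsLocalization.Away.surj (f j) ((x₁ - x₂).1.2 j)
      have h0 : fromA A f B i j ((x₁ - x₂).1.2 j) = 0 := by
        rw [← (mem_glued.1 (x₁ - x₂).2).1 i j, show (x₁ - x₂).1.1 i = 0 from sub_eq_zero.2 hx, map_zero]
      have h1 := congrArg (fromA A f B i j) ha
      rw [map_mul, h0, zero_mul, AlgHom.commutes, IsScalarTower.algebraMap_apply A (B i) (BLoc A f B i j)] at h1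
      obtain ⟨e', he'⟩ := smul_pow_eq_zero (B := B) h1.symm
      have h2 := hker i _ (pow_mem n j) (algebraMap A (Localization.AtPrime (m i)) (f j ^ e' * a)) (by
        rw [← IsScalarTower.algebraMap_apply, map_mul, ← Algebra.smul_def]; exact he')
      rw [Algebra.smul_def, ← map_mul] at h2
      obtain ⟨⟨t, ht⟩, htd⟩ := (IsLocalization.map_eq_zero_iff (m i).primeCompl _ _).1 h2
      refine ⟨t, ht, ?_⟩
      have hu : IsUnit (algebraMap A (Localization.Away (f j)) (f j)) := IsLocalization.Away.algebraMap_isUnit _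
      refine (((hu.pow n).mul (hu.pow e')).mul (hu.pow e)).mul_left_eq_zero.1 ?_
      have h5 := congrArg (algebraMap A (Localization.Away (f j))) htd
      simp only [map_mul, map_pow, map_zero] at h5
      rw [← ha] at h5
      rw [Algebra.smul_def]
      linear_combination h5
    choose t ht htj using hd
    obtain ⟨u, hu, hu'⟩ := exists_notMem_of_ne m i hinj
    have hb : ∀ l, ∃ e, u ^ e • ((∏ j, t j) • (x₁ - x₂).1.1 l) = 0 := fun l => by
      rcases eq_or_ne l i with rfl | hl
      · exact ⟨0, by rw [show (x₁ - x₂).1.1 l = 0 from sub_eq_zero.2 hx, smul_zero, smul_zero]⟩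
      have hrad : Ideal.span (Set.range f) ≤
          (Ideal.torsionOf A (B l) ((∏ j, t j) • (x₁ - x₂).1.1 l)).radical := Ideal.span_le.2 (by
        rintro _ ⟨j, rfl⟩
        obtain ⟨e, he⟩ := smul_pow_eq_zero (B := B) (i := l) (j := j) (b := (∏ j, t j) • (x₁ - x₂).1.1 l) (by
          rw [← IsScalarTower.toAlgHom_apply A, map_smul, IsScalarTower.toAlgHom_apply,
            (mem_glued.1 (x₁ - x₂).2).1 l j, ← map_smul]
          obtain ⟨w, hw⟩ := Finset.dvd_prod_of_mem t (Finset.mem_univ j)
          rw [hw, mul_comm, mul_smul, htj, smul_zero, map_zero])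
        exact ⟨e, (Ideal.mem_torsionOf_iff _ _).2 he⟩)
      obtain ⟨e, he⟩ := Ideal.exists_pow_le_of_le_radical_of_fg hrad (Submodule.fg_span (Set.finite_range f))
      obtain ⟨v, hv, hv'⟩ := exists_notMem_of_ne m l hinj
      refine ⟨e, hcancel l (v ^ e) (fun h => hv ((hmax l).isPrime.mem_of_pow_mem e h)) _ ?_⟩
      rw [← mul_smul]
      exact (Ideal.mem_torsionOf_iff _ _).1 (he (mul_pow_mem m hI hu' hv' hl e))
    choose e he using hb
    refine ⟨⟨u ^ Finset.univ.sup e * ∏ j, t j, fun h => ?_⟩, sub_eq_zero.1 ?_⟩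
    · rcases (hmax i).isPrime.mem_or_mem h with h | h
      · exact hu ((hmax i).isPrime.mem_of_pow_mem _ h)
      · obtain ⟨j, -, hj⟩ := (hmax i).isPrime.prod_mem_iff.1 h
        exact ht j hj
    · rw [Submonoid.smul_def, Submonoid.smul_def, ← smul_sub]
      refine Subtype.ext (Prod.ext (funext fun l => ?_) (funext fun j => ?_))
      · change (u ^ Finset.univ.sup e * ∏ j, t j) • (x₁ - x₂).1.1 l = 0
        obtain ⟨d, hd⟩ := Nat.exists_eq_add_of_le (Finset.le_sup (f := e) (Finset.mem_univ l))
        rw [hd, pow_add, mul_smul, mul_comm, mul_smul, he, smul_zero]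
      · change (u ^ Finset.univ.sup e * ∏ j, t j) • (x₁ - x₂).1.2 j = 0
        obtain ⟨w, hw⟩ := Finset.dvd_prod_of_mem t (Finset.mem_univ j)
        rw [hw, mul_comm (t j), ← mul_assoc, mul_smul, htj, smul_zero]

include hker hcoker hinj hI in
theorem nonempty_equiv (i : Fin r) :
    Nonempty (Localization.AtPrime (m i) ⊗[A] glued A f B ≃ₐ[Localization.AtPrime (m i)] B i) := by
  let π : glued A f B →ₐ[A] B i := (Pi.evalAlgHom A B i).comp ((AlgHom.fst A _ _).comp (glued A f B).val)
  haveI := isLocalizedModule_proj n hker hcoker hinj hI i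
  have hb : IsBaseChange (Localization.AtPrime (m i)) π.toLinearMap :=
    (isLocalizedModule_iff_isBaseChange (m i).primeCompl _ _).1 this
  let Φ := Algebra.TensorProduct.lift (Algebra.ofId (Localization.AtPrime (m i)) (B i)) π (fun _ _ => Commute.all _ _)
  refine ⟨AlgEquiv.ofBijective Φ ?_⟩
  have h : Φ.toLinearMap = hb.equiv.toLinearMap := by
    refine TensorProduct.AlgebraTensorModule.ext fun x c => ?_
    simp [Φ, hb.equiv_tmul, Algebra.smul_def]
  rw [show ⇑Φ = ⇑hb.equiv from funext (LinearMap.congr_fun h)]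
  exact hb.equiv.bijective

include hker hinj hI in
theorem finite_glued [IsNoetherianRing A]
    (h : ∀ i, Module.Finite A (B i ⧸ LinearMap.range (IsScalarTower.toAlgHom A (Localization.AtPrime (m i)) (B i)).toLinearMap)) :
    Module.Finite A (glued A f B) := by
  let Q : glued A f B →ₗ[A]
      ∀ i, B i ⧸ LinearMap.range (IsScalarTower.toAlgHom A (Localization.AtPrime (m i)) (B i)).toLinearMap :=
    LinearMap.pi fun i => (Submodule.mkQ _).comp
      (((Pi.evalAlgHom A B i).comp ((AlgHom.fst A _ _).comp (glued A f B).val)).toLinearMap)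
  have hQ : LinearMap.range (Algebra.linearMap A (glued A f B)) = LinearMap.ker Q := by
    ext x
    refine ⟨?_, fun hx => ?_⟩
    · rintro ⟨a, rfl⟩
      refine LinearMap.mem_ker.2 (funext fun i => (Submodule.Quotient.mk_eq_zero _).2 ⟨algebraMap A _ a, ?_⟩)
      exact (IsScalarTower.algebraMap_apply A (Localization.AtPrime (m i)) (B i) a).symm
    · obtain ⟨a, ha⟩ := exists_eq_algebraMap n hker hinj hI x fun i =>
        (Submodule.Quotient.mk_eq_zero _).1 (congrFun (LinearMap.mem_ker.1 hx) i)
      exact ⟨a, ha⟩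
  haveI : IsNoetherian A (glued A f B) := isNoetherian_of_range_eq_ker (Algebra.linearMap A _) Q hQ
  exact inferInstance

end Hyp

theorem finite_coker {i : Fin r} (hfin : Module.Finite (Localization.AtPrime (m i)) (B i))
    {n : ℕ} (hn : ∀ y ∈ Ideal.map (algebraMap A (Localization.AtPrime (m i))) (m i) ^ n, ∀ b : B i,
      y • b ∈ (algebraMap (Localization.AtPrime (m i)) (B i)).range) :
    Module.Finite A (B i ⧸ LinearMap.range (IsScalarTower.toAlgHom A (Localization.AtPrime (m i)) (B i)).toLinearMap) := by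
  obtain ⟨k, b, hb⟩ := Module.Finite.exists_fin (R := Localization.AtPrime (m i)) (M := B i)
  refine Module.Finite.of_surjective
    ((Submodule.mkQ _).comp (Fintype.linearCombination A b)) fun z => ?_
  obtain ⟨z, rfl⟩ := Submodule.mkQ_surjective _ z
  obtain ⟨l, hl⟩ := (Submodule.mem_span_range_iff_exists_fun _).1 (hb.ge (Submodule.mem_top : z ∈ ⊤))
  have happ : ∀ x : Localization.AtPrime (m i), ∃ a : A, x - algebraMap A _ a ∈
      Ideal.map (algebraMap A (Localization.AtPrime (m i))) (m i) ^ n := fun x => by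
    obtain ⟨⟨a, ⟨s, hs⟩⟩, hsa⟩ := IsLocalization.surj (m i).primeCompl x
    obtain ⟨s', y, hy, he⟩ := (Ideal.isMaximal_iff.1 (inferInstance : (m i).IsMaximal)).2 (m i ⊔ Ideal.span {s}) s
      le_sup_left hs (Ideal.mem_sup_right (Ideal.mem_span_singleton_self s)) |> fun h1 =>
        show ∃ s' y, y ∈ m i ^ n ∧ s' * s + y = 1 by
          have h2 : Ideal.span {s} ⊔ m i = ⊤ := by rw [sup_comm]; exact (Ideal.eq_top_iff_one _).2 h1
          have h3 := (Ideal.eq_top_iff_one _).1 (Ideal.sup_pow_eq_top (n := n) h2)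
          obtain ⟨_, hp, q, hq, hpq⟩ := Submodule.mem_sup.1 h3
          obtain ⟨s', rfl⟩ := Ideal.mem_span_singleton'.1 hp
          exact ⟨s', q, hq, hpq⟩
    refine ⟨s' * a, ?_⟩
    rw [← Ideal.map_pow, show x - algebraMap A _ (s' * a) = x * algebraMap A _ y by
      rw [map_mul, ← hsa, eq_sub_of_add_eq' he, map_sub, map_one, map_mul]
      ring]
    exact Ideal.mul_mem_left _ _ (Ideal.mem_map_of_mem _ hy)
  choose a ha using happ
  refine ⟨fun j => a (l j), (Submodule.Quotient.eq _).2 ?_⟩
  rw [Fintype.linearCombination_apply, ← hl, ← Finset.sum_sub_distrib]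
  refine Submodule.sum_mem _ fun j _ => ?_
  obtain ⟨x, hx⟩ := hn _ (neg_mem (ha (l j))) (b j)
  refine ⟨x, hx.trans ?_⟩
  rw [neg_sub, sub_smul, algebraMap_smul]

end Groth.Agent.GlueMax28
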